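import Cfsg.Agent.Mrg.Omega.ML.RowFi22
import Cfsg.Agent.Mrg.Omega.ML.Ex.RkX

section


/-!
# K-list "exact + low": THEOREM EX in the exact form, the module part (helper96)

* `core2` : a 2-group `Q` normal in `L`, all of whose proper `E`-invariant subgroups have index at least `2 ^ (2w)`, acts
  on every `L`-module `N` of order at most `2 ^ (2w+1)` trivially, or `[N, Q]` has index 2 or order 2 (`TrivOn L E (2 ^ w)`).
-/

set_option autoImplicit false

namespace Cfsg.Agent.Omega.ML.ExEx.Core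

open Subgroup Cfsg.Agent.Omega.NOThree.NoOver Cfsg.Agent.Omega.ML.ExCore

universe u v w u'

variable {L : Type u} [Group L] {N : Type v} [Group N] [MulDistribMulAction L N]

/-- **The module part of THEOREM EX, exact form** -/
theorem core2 [Finite L] [Finite N] (sq : ∀ x : N, x * x = 1) {Q E : Subgroup L} (hQ : Q.Normal) (h2 : IsPGroup 2 Q)
    {w : ℕ} (hN : Nat.card N ≤ 2 ^ (2 * w + 1))
    (irr : ∀ D ≤ Q, (∀ l ∈ E, ∀ q ∈ D, l * q * l⁻¹ ∈ D) → 2 ^ (2 * w) ≤ D.relIndex Q ∨ D = Q)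
    (tr : TrivOn.{u, v} L E (2 ^ w)) : (∀ q ∈ Q, ∀ n : N, q • n = n) ∨
    ∃ N₁ : Subgroup N, (∀ (l : L), ∀ x ∈ N₁, l • x ∈ N₁) ∧ (∀ q ∈ Q, ∀ n : N, q • n * n⁻¹ ∈ N₁) ∧
      (∀ q ∈ Q, ∀ x ∈ N₁, q • x = x) ∧ (N₁.index = 2 ∨ Nat.card N₁ = 2) := by
  by_cases hcon : ∀ q ∈ Q, ∀ n : N, q • n = n
  · exact Or.inl hcon
  right
  push Not at hcon
  obtain ⟨q₀, hq₀, n₀, hn₀⟩ := hcon
  obtain ⟨N₁, hN₁⟩ : ∃ N₁, N₁ = br N Q ⊤ := ⟨_, rfl⟩
  have hinv1 : ∀ (l : L), ∀ x ∈ N₁, l • x ∈ N₁ := by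
    rw [hN₁]
    exact fun l x hx => smul_mem_br hQ (fun _ _ _ => mem_top _) l hx
  obtain ⟨N₂, hN₂⟩ : ∃ N₂, N₂ = br N Q N₁ := ⟨_, rfl⟩
  have hinv2 : ∀ (l : L), ∀ x ∈ N₂, l • x ∈ N₂ := by
    rw [hN₂]
    exact fun l x hx => smul_mem_br hQ hinv1 l hx
  have hb1 : ∀ q ∈ Q, ∀ n : N, q • n * n⁻¹ ∈ N₁ := fun q hq n => by
    rw [hN₁]; exact mem_br hq (mem_top n)
  have hb2 : ∀ q ∈ Q, ∀ n ∈ N₁, q • n * n⁻¹ ∈ N₂ := fun q hq n hn => by
    rw [hN₂]; exact mem_br hq hn
  have hne1 : N₁ ≠ ⊥ := by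
    intro h
    have h1 := hb1 q₀ hq₀ n₀
    rw [h, mem_bot, mul_inv_eq_one] at h1
    exact hn₀ h1
  have htop : (⊤ : Subgroup N) ≠ ⊥ := fun h => hne1 (le_bot_iff.1 (h ▸ le_top))
  have hne2 : N₁ ≠ ⊤ := by
    rw [hN₁]
    exact br_ne sq h2 (fun _ _ _ _ => mem_top _) htop
  have hlt2 : N₂ < N₁ := by
    refine lt_of_le_of_ne ?_ ?_
    · rw [hN₂]
      exact br_le fun q _ x hx => hinv1 q x hx
    · rw [hN₂]
      exact br_ne sq h2 (fun q _ x hx => hinv1 q x hx) hne1
  have hcard := card_mul_index N₁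
  have hi : 2 ≤ N₁.index := by
    have h3 : N₁.index ≠ 0 := index_ne_zero_of_finite
    have h4 : N₁.index ≠ 1 := fun e => hne2 (index_eq_one.1 e)
    omega
  have hc : 2 ≤ Nat.card N₁ := (one_lt_card_iff_ne_bot N₁).2 hne1
  have hpw : 2 ^ (2 * w + 1) = 2 * 2 ^ (2 * w) := by rw [pow_succ, mul_comm]
  -- if `N₂ = 1` then `Q` centralises `N₁`
  have hfix : N₂ = ⊥ → ∀ q ∈ Q, ∀ x ∈ N₁, q • x = x := fun h q hq x hx => by
    have h3 := hb2 q hq x hx
    rwa [h, mem_bot, mul_inv_eq_one] at h3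
  by_cases hcase : N₁.index ≤ 2 ^ w
  · -- `L` is trivial on `N / N₁`
    have htr : ∀ l ∈ E, ∀ x : N, l • x * x⁻¹ ∈ N₁ := fun l hl x =>
      tr.sec sq hinv1 (V := ⊤) (fun _ _ _ => mem_top _) (by rwa [relIndex_top_right]) hl (mem_top x)
    obtain ⟨n, q₁, hq₁, hn⟩ : ∃ n : N, ∃ q ∈ Q, q • n * n⁻¹ ∉ N₂ := by
      by_contra hc
      push Not at hc
      have h3 : N₁ ≤ N₂ := by
        rw [hN₁, br_le_iff]
        exact fun q hq y _ => hc y q hq
      exact absurd h3 (not_le_of_gt hlt2)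
    have hU : ∀ q ∈ Q, ∀ x ∈ N₂, q • x ∈ N₂ := fun q _ x hx => hinv2 q x hx
    have hD : ∀ l ∈ E, ∀ q ∈ dn Q N₂ hU n, l * q * l⁻¹ ∈ dn Q N₂ hU n := by
      refine fun l hl q hq => ⟨hQ.conj_mem q hq.1 l, ?_⟩
      have h3 := hb2 q hq.1 _ (htr l⁻¹ (E.inv_mem hl) n)
      have h4 : l⁻¹ • n = (l⁻¹ • n * n⁻¹) * n := by group
      have h5 : q • (l⁻¹ • n) * (l⁻¹ • n)⁻¹ ∈ N₂ := by
        have h6 : (l⁻¹ • n * n⁻¹) * n ∈ cn sq q N₂ := mul_mem h3 hq.2
        rw [← h4] at h6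
        exact h6
      have h7 := hinv2 l _ h5
      rw [smul_mul', smul_inv', smul_inv_smul, ← mul_smul, ← mul_smul] at h7
      exact h7
    rcases irr (dn Q N₂ hU n) (fun q hq => hq.1) hD with h3 | h3
    · have h4 := relIndex_dn_le sq hU (W := N₁) (fun q hq => hb1 q hq n) hb2
      have h5 : Nat.card N₂ * N₂.relIndex N₁ = Nat.card N₁ := by
        rw [← relIndex_bot_left, ← relIndex_bot_left N₁]
        exact relIndex_mul_relIndex _ _ _ bot_le hlt2.le
      have h6 : 2 ^ (2 * w) ≤ N₂.relIndex N₁ := h3.trans h4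
      have h7 : 0 < Nat.card N₂ := Nat.card_pos
      have h8 : 0 < 2 ^ (2 * w) := by positivity
      -- `|N₁| ≥ |N₂| 2^(2w)`, `|N₁| |N : N₁| ≤ 2 * 2^(2w)`
      have h9 : Nat.card N₂ * 2 ^ (2 * w) * N₁.index ≤ 2 * 2 ^ (2 * w) := by
        calc Nat.card N₂ * 2 ^ (2 * w) * N₁.index ≤ Nat.card N₂ * N₂.relIndex N₁ * N₁.index :=
              Nat.mul_le_mul_right _ (Nat.mul_le_mul_left _ h6)
          _ = Nat.card N := by rw [h5, hcard]
          _ ≤ 2 * 2 ^ (2 * w) := by rw [← hpw]; exact hN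
      have h10 : Nat.card N₂ * N₁.index ≤ 2 := by
        have e : Nat.card N₂ * 2 ^ (2 * w) * N₁.index = (Nat.card N₂ * N₁.index) * 2 ^ (2 * w) := by ring
        rw [e] at h9
        exact Nat.le_of_mul_le_mul_right h9 h8
      have h11 : N₁.index = 2 := by nlinarith
      have h12 : Nat.card N₂ = 1 := by
        rw [h11] at h10
        omega
      have h13 : N₂ = ⊥ := card_eq_one.1 h12
      exact ⟨N₁, hinv1, hb1, hfix h13, Or.inl h11⟩
    · have h4 : q₁ ∈ dn Q N₂ hU n := by rw [h3]; exact hq₁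
      exact absurd h4.2 hn
  · -- `L` is trivial on `N₁`
    have hcase' : Nat.card N₁ ≤ 2 ^ w := by
      by_contra hc'
      rw [not_le] at hcase hc'
      -- both are powers of 2
      have hp : ∃ a, Nat.card N₁ = 2 ^ a := by
        have hp2 : IsPGroup 2 N₁ := fun x => ⟨1, by rw [pow_one, pow_two]; exact Subtype.ext (sq x)⟩
        exact (IsPGroup.iff_card (p := 2)).1 hp2
      obtain ⟨a, ha⟩ := hp
      rw [ha] at hc'
      have ha' : w + 1 ≤ a := (Nat.pow_lt_pow_iff_right (by norm_num)).1 hc'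
      have h3 : 2 ^ (w + 1) ≤ Nat.card N₁ := by rw [ha]; exact Nat.pow_le_pow_right (by norm_num) ha'
      have h4 : 2 ^ (w + 1) * 2 ^ w < Nat.card N₁ * N₁.index :=
        lt_of_lt_of_le (Nat.mul_lt_mul_of_pos_left hcase (by positivity)) (Nat.mul_le_mul_right _ h3)
      rw [hcard, ← pow_add] at h4
      have h5 : w + 1 + w = 2 * w + 1 := by ring
      rw [h5] at h4
      omega
    have htr : ∀ l ∈ E, ∀ x ∈ N₁, l • x = x := by
      intro l hl x hx
      have h3 := tr.sec sq (U := ⊥) (V := N₁) (fun l x hx => by rw [mem_bot.1 hx, smul_one]; exact one_mem _)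
        hinv1 (by rwa [relIndex_bot_left]) hl hx
      rwa [mem_bot, mul_inv_eq_one] at h3
    obtain ⟨Y, hY1, -, hY2, hY3⟩ := exists_max (p := fun _ => True) trivial hlt2
    obtain ⟨v, hv, hvY⟩ := SetLike.exists_of_lt hY2
    have hsup : N₁ = Y ⊔ zpowers v := by
      by_contra hc
      have h2 : Y < Y ⊔ zpowers v := lt_of_le_of_ne le_sup_left fun h => hvY (h ▸ le_sup_zpowers Y v)
      have h3 : Y ⊔ zpowers v ≤ N₁ := sup_le hY2.le (zpowers_le.2 hv)
      exact hY3 _ h2 trivial (lt_of_le_of_ne h3 (Ne.symm hc))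
    have hYi : Y.relIndex N₁ ≤ 2 := by
      have hn := normal_of_sq sq Y
      rw [hsup, sup_comm, relIndex_sup_right]
      have h3 : Y.relIndex (zpowers v) ≤ Nat.card (zpowers v) := Nat.le_of_dvd Nat.card_pos (relIndex_dvd_card _ _)
      rw [Nat.card_zpowers] at h3
      exact h3.trans (orderOf_le_of_pow_eq_one (by norm_num) (by rw [pow_two]; exact sq v))
    have hYinv : ∀ l ∈ E, ∀ x ∈ Y, l • x ∈ Y := fun l hl x hx => by rwa [htr l hl x (hY2.le hx)]
    have hU : ∀ q ∈ Q, ∀ x ∈ Y, q • x ∈ Y := fun q hq x hx => by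
      have h3 := Y.mul_mem (hY1 (hb2 q hq x (hY2.le hx))) hx
      rwa [inv_mul_cancel_right] at h3
    have hD : ∀ l ∈ E, ∀ q ∈ dv Q Y hU ⊤, l * q * l⁻¹ ∈ dv Q Y hU ⊤ := by
      intro l hl q hq
      rw [mem_dv] at hq ⊢
      refine ⟨hQ.conj_mem q hq.1 l, fun n _ => ?_⟩
      have h7 := hYinv l hl _ (hq.2 (l⁻¹ • n) (mem_top _))
      rwa [smul_mul', smul_inv', smul_inv_smul, ← mul_smul, ← mul_smul] at h7
    rcases irr (dv Q Y hU ⊤) (fun q hq => (mem_dv.1 hq).1) hD with h3 | h3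
    · have h4 := relIndex_dv_le sq hU (N₁ := N₁) (fun n q hq => hb1 q hq n) (fun q hq x hx => hY1 (hb2 q hq x hx)) hYi ⊤
        le_top
      rw [relIndex_top_right] at h4
      have h5 : 2 ^ (2 * w) ≤ N₁.index := h3.trans h4
      have h6 : Nat.card N₁ * 2 ^ (2 * w) ≤ 2 * 2 ^ (2 * w) := by
        calc Nat.card N₁ * 2 ^ (2 * w) ≤ Nat.card N₁ * N₁.index := Nat.mul_le_mul_left _ h5
          _ = Nat.card N := hcard
          _ ≤ 2 * 2 ^ (2 * w) := by rw [← hpw]; exact hN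
      have h7 : Nat.card N₁ ≤ 2 := Nat.le_of_mul_le_mul_right h6 (by positivity)
      have h8 : Nat.card N₁ = 2 := le_antisymm h7 hc
      have h9 : N₂ = ⊥ := by
        by_contra h10
        have h11 : 2 ≤ Nat.card N₂ := (one_lt_card_iff_ne_bot N₂).2 h10
        exact hlt2.ne (eq_of_le_of_card_ge hlt2.le (by omega))
      exact ⟨N₁, hinv1, hb1, hfix h9, Or.inr h8⟩
    · have h4 : N₁ ≤ Y := by
        rw [hN₁, br_le_iff]
        intro q hq n _
        rw [← h3] at hq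
        exact (mem_dv.1 hq).2 n (mem_top n)
      exact absurd h4 (not_le_of_gt hY2)

end Cfsg.Agent.Omega.ML.ExEx.Core

end

section


/-!
# K-list "exact + low": THEOREM EX in the exact form, the two equality cases (helper96)

`Q` acts on `M ≥ M₁ ≥ F`, trivially on `F` and `M₁ / F` and `M / M₁`; the elements of `Q` trivial on `M / F` are `1`, `z`.

* `Sit.false_two` : `|M₁ / F| ≤ 2`, `|Q| > 8`: contradiction;
* `Sit.false_tv` : `|M : M₁| = 2`: `z` is a transvection; contradiction if a conjugate `t` of `z` commutes with `z`, normalises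
  `Q` and moves `Q / ⟨z⟩`.
-/

set_option autoImplicit false

namespace Cfsg.Agent.Omega.ML.ExEx.Kill

open Subgroup Cfsg.Agent.Omega.NOThree.NoOver Cfsg.Agent.Omega.ML.ExCore

universe u v

variable {H : Type u} [Group H] {M : Type v} [Group M] [MulDistribMulAction H M]

/-- the situation -/
structure Sit (Q : Subgroup H) (F M₁ : Subgroup M) (z : H) : Prop where
  sq : ∀ m : M, m * m = 1
  faith : ∀ h : H, (∀ m : M, h • m = m) → h = 1
  FM : F ≤ M₁
  hF : ∀ q ∈ Q, ∀ x ∈ F, q • x = x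
  h1 : ∀ q ∈ Q, ∀ m : M, q • m * m⁻¹ ∈ M₁
  h2 : ∀ q ∈ Q, ∀ x ∈ M₁, q • x * x⁻¹ ∈ F
  hD : ∀ q ∈ Q, (∀ m : M, q • m * m⁻¹ ∈ F) → q = 1 ∨ q = z
  nab : ∃ a ∈ Q, ∃ b ∈ Q, a * b ≠ b * a

theorem d_mul (a b : H) (m : M) : (a * b) • m * m⁻¹ = (a • (b • m * m⁻¹)) * (a • m * m⁻¹) := by
  rw [mul_smul, smul_mul', smul_inv']
  group

theorem d_mulr (a : H) (m n : M) (hc : ∀ a b : M, a * b = b * a) :
    a • (m * n) * (m * n)⁻¹ = (a • m * m⁻¹) * (a • n * n⁻¹) := by
  rw [smul_mul', mul_inv_rev]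
  calc a • m * a • n * (n⁻¹ * m⁻¹) = a • m * (a • n * n⁻¹) * m⁻¹ := by group
    _ = a • m * m⁻¹ * (a • n * n⁻¹) := by rw [mul_assoc, hc (a • n * n⁻¹) m⁻¹, ← mul_assoc]

theorem swap (hc : ∀ a b : M, a * b = b * a) (x y α β : M) :
    x * α * (y * β)⁻¹ = (x * β⁻¹) * (y * α⁻¹)⁻¹ := by
  rw [mul_inv_rev, mul_inv_rev, inv_inv]
  calc x * α * (β⁻¹ * y⁻¹) = x * (α * β⁻¹) * y⁻¹ := by group
    _ = x * (β⁻¹ * α) * y⁻¹ := by rw [hc α β⁻¹]
    _ = _ := by group

namespace Sit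

variable {Q : Subgroup H} {F M₁ : Subgroup M} {z : H} (S : Sit Q F M₁ z)
include S

theorem comm (a b : M) : a * b = b * a := comm_of_sq S.sq a b

theorem stab {q : H} (hq : q ∈ Q) {x : M} (hx : x ∈ M₁) : q • x ∈ M₁ := by
  have h := M₁.mul_mem (S.FM (S.h2 q hq x hx)) hx
  rwa [inv_mul_cancel_right] at h

/-- `(ab) m / (ba) m ∈ F` -/
theorem comm_F {a b : H} (ha : a ∈ Q) (hb : b ∈ Q) (m : M) : (a * b) • m * ((b * a) • m)⁻¹ ∈ F := by
  have e1 := d_mul a b m
  have e2 := d_mul b a m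
  have f1 := S.h2 a ha _ (S.h1 b hb m)
  have f2 := S.h2 b hb _ (S.h1 a ha m)
  have e3 : (a * b) • m * ((b * a) • m)⁻¹ = ((a * b) • m * m⁻¹) * ((b * a) • m * m⁻¹)⁻¹ := by group
  rw [e3, e1, e2, swap S.comm]
  exact F.mul_mem f1 (F.inv_mem f2)

/-- commutators lie in `{1, z}` -/
theorem commutator {a b : H} (ha : a ∈ Q) (hb : b ∈ Q) : a * b * a⁻¹ * b⁻¹ = 1 ∨ a * b * a⁻¹ * b⁻¹ = z := by
  refine S.hD _ (Q.mul_mem (Q.mul_mem (Q.mul_mem ha hb) (Q.inv_mem ha)) (Q.inv_mem hb)) fun m => ?_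
  have key := S.comm_F ha hb
  have h3 := key ((b * a)⁻¹ • m)
  rw [smul_inv_smul, ← mul_smul] at h3
  have e : a * b * (b * a)⁻¹ = a * b * a⁻¹ * b⁻¹ := by group
  rwa [e] at h3

/-- squares lie in `{1, z}` -/
theorem square {a : H} (ha : a ∈ Q) : a * a = 1 ∨ a * a = z := by
  refine S.hD _ (Q.mul_mem ha ha) fun m => ?_
  rw [d_mul]
  have h3 := S.h2 a ha _ (S.h1 a ha m)
  have e : a • (a • m * m⁻¹) * (a • m * m⁻¹) = (a • (a • m * m⁻¹) * (a • m * m⁻¹)⁻¹) := by
    rw [inv_eq_of_mul_eq_one_right (S.sq (a • m * m⁻¹))]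
  rw [e]
  exact h3

/-- there are `a, b ∈ Q` with `[a, b] = z ≠ 1` -/
theorem exists_comm : ∃ a ∈ Q, ∃ b ∈ Q, a * b * a⁻¹ * b⁻¹ = z ∧ z ≠ 1 := by
  obtain ⟨a, ha, b, hb, hab⟩ := S.nab
  have h3 : a * b * a⁻¹ * b⁻¹ ≠ 1 := by
    intro h
    apply hab
    calc a * b = (a * b * a⁻¹ * b⁻¹) * (b * a) := by group
      _ = b * a := by rw [h, one_mul]
  have h4 := (S.commutator ha hb).resolve_left h3
  exact ⟨a, ha, b, hb, h4, fun h5 => h3 (h4.trans h5)⟩

theorem z_ne : z ≠ 1 := by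
  obtain ⟨-, -, -, -, -, h⟩ := S.exists_comm
  exact h

theorem z_mem : z ∈ Q := by
  obtain ⟨a, ha, b, hb, h, -⟩ := S.exists_comm
  rw [← h]
  exact Q.mul_mem (Q.mul_mem (Q.mul_mem ha hb) (Q.inv_mem ha)) (Q.inv_mem hb)

/-- `z` acts trivially on `M / F` -/
theorem z_F (m : M) : z • m * m⁻¹ ∈ F := by
  obtain ⟨a, ha, b, hb, hz, -⟩ := S.exists_comm
  have key := S.comm_F ha hb
  have h3 := key ((b * a)⁻¹ • m)
  rw [smul_inv_smul, ← mul_smul] at h3
  have e : a * b * (b * a)⁻¹ = z := by rw [← hz]; group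
  rwa [e] at h3

/-- `z` acts trivially on `M₁` -/
theorem z_fix {x : M} (hx : x ∈ M₁) : z • x = x := by
  obtain ⟨a, ha, b, hb, hz, -⟩ := S.exists_comm
  have key : ∀ x' ∈ M₁, (a * b) • x' = (b * a) • x' := by
    intro x' hx'
    have e1 := d_mul a b x'
    have e2 := d_mul b a x'
    rw [S.hF a ha _ (S.h2 b hb x' hx')] at e1
    rw [S.hF b hb _ (S.h2 a ha x' hx'), S.comm (a • x' * x'⁻¹)] at e2
    exact mul_right_cancel (e1.trans e2.symm)
  have h3 := key ((b * a)⁻¹ • x) (S.stab (Q.inv_mem (Q.mul_mem hb ha)) hx)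
  rw [smul_inv_smul, ← mul_smul] at h3
  have e : a * b * (b * a)⁻¹ = z := by rw [← hz]; group
  rwa [e] at h3

/-- `z` is central in `Q` -/
theorem z_comm {a : H} (ha : a ∈ Q) : a * z = z * a := by
  have h3 : a * z * a⁻¹ = 1 ∨ a * z * a⁻¹ = z := by
    refine S.hD _ (Q.mul_mem (Q.mul_mem ha S.z_mem) (Q.inv_mem ha)) fun m => ?_
    have h4 := S.z_F (a⁻¹ • m)
    have h5 := S.hF a ha _ h4
    rw [smul_mul', smul_inv', smul_inv_smul] at h5
    rw [mul_smul, mul_smul, h5]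
    exact h4
  rcases h3 with h3 | h3
  · exfalso
    apply S.z_ne
    calc z = a⁻¹ * (a * z * a⁻¹) * a := by group
      _ = 1 := by rw [h3]; group
  · rw [mul_inv_eq_iff_eq_mul] at h3
    exact h3

theorem z_sq : z * z = 1 := by
  rcases S.square S.z_mem with h | h
  · exact h
  · exact absurd (mul_left_cancel (h.trans (mul_one z).symm)) S.z_ne

/-- `Q` does not centralise `M₁` -/
theorem not_cent (h : ∀ q ∈ Q, ∀ x ∈ M₁, q • x = x) : False := by
  obtain ⟨a, ha, b, hb, hab⟩ := S.nab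
  apply hab
  have key : ∀ m : M, (a * b) • m = (b * a) • m := by
    intro m
    have e1 := d_mul a b m
    have e2 := d_mul b a m
    rw [h a ha _ (S.h1 b hb m)] at e1
    rw [h b hb _ (S.h1 a ha m), S.comm (a • m * m⁻¹)] at e2
    exact mul_right_cancel (e1.trans e2.symm)
  have h3 : (b * a)⁻¹ * (a * b) = 1 := by
    refine S.faith _ fun m => ?_
    rw [mul_smul, key, inv_smul_smul]
  exact (inv_mul_eq_one.1 h3).symm

/-- **The case `|M₁ / F| ≤ 2`** -/
theorem false_two [Finite H] (hM : ∀ x ∈ M₁, ∀ y ∈ M₁, x ∉ F → y ∉ F → x * y ∈ F) (hQ : 8 < Nat.card Q) : False := by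
  refine S.not_cent fun q' hq' => ?_
  by_contra hcon
  push Not at hcon
  obtain ⟨x₀, hx₀, hne⟩ := hcon
  -- commuting `q`
  have hstep : ∀ q ∈ Q, q * q' = q' * q → ∀ m : M, q' • m * m⁻¹ ∈ F → q • m * m⁻¹ ∈ F := by
    intro q hq hc m hm
    by_contra hcc
    set x := q • m * m⁻¹ with hx
    have hx1 : x ∈ M₁ := S.h1 q hq m
    -- `q' x = x`
    have h3 : q' • x = x := by
      have e1 := d_mul q q' m
      have e2 := d_mul q' q m
      rw [hc, e2, S.hF q hq _ hm, S.comm] at e1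
      exact mul_left_cancel e1
    -- `q'` centralises `M₁`
    apply hne
    by_cases hx0F : x₀ ∈ F
    · exact S.hF q' hq' _ hx0F
    · have h4 := S.hF q' hq' _ (hM x₀ hx₀ x hx1 hx0F hcc)
      rw [smul_mul', h3] at h4
      exact mul_right_cancel h4
  -- the centraliser of `q'` is small
  have hsmall : ∀ q ∈ Q, q * q' = q' * q → q = 1 ∨ q = z ∨ q = q'⁻¹ ∨ q = q'⁻¹ * z := by
    intro q hq hc
    by_cases h3 : ∀ m : M, q • m * m⁻¹ ∈ F
    · rcases S.hD q hq h3 with h4 | h4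
      · exact Or.inl h4
      · exact Or.inr (Or.inl h4)
    · push Not at h3
      obtain ⟨m₀, hm₀⟩ := h3
      have hm₀' : q' • m₀ * m₀⁻¹ ∉ F := fun h4 => hm₀ (hstep q hq hc m₀ h4)
      have h5 : q' * q = 1 ∨ q' * q = z := by
        refine S.hD _ (Q.mul_mem hq' hq) fun m => ?_
        rw [d_mul]
        have h6 := S.h2 q' hq' _ (S.h1 q hq m)
        -- `q m / m * q' m / m ∈ F`
        have h7 : (q • m * m⁻¹) * (q' • m * m⁻¹) ∈ F := by
          by_cases h8 : q' • m * m⁻¹ ∈ F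
          · exact F.mul_mem (hstep q hq hc m h8) h8
          · refine hM _ (S.h1 q hq m) _ (S.h1 q' hq' m) ?_ h8
            intro h9
            -- `m m₀` is in the kernel for `q'`
            have h10 : q' • (m * m₀) * (m * m₀)⁻¹ ∈ F := by
              rw [d_mulr q' m m₀ S.comm]
              exact hM _ (S.h1 q' hq' m) _ (S.h1 q' hq' m₀) h8 hm₀'
            have h11 := hstep q hq hc _ h10
            rw [d_mulr q m m₀ S.comm] at h11
            apply hm₀
            have h12 := F.mul_mem (F.inv_mem h9) h11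
            rwa [inv_mul_cancel_left] at h12
        have h13 : q' • (q • m * m⁻¹) * (q' • m * m⁻¹) =
            (q' • (q • m * m⁻¹) * (q • m * m⁻¹)⁻¹) * ((q • m * m⁻¹) * (q' • m * m⁻¹)) := by group
        rw [h13]
        exact F.mul_mem h6 h7
      rcases h5 with h5 | h5
      · exact Or.inr (Or.inr (Or.inl (eq_inv_of_mul_eq_one_right h5)))
      · refine Or.inr (Or.inr (Or.inr ?_))
        rw [← h5]; group
  -- `|Q| ≤ 8`
  set C : Set H := {1, z, q'⁻¹, q'⁻¹ * z} with hC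
  have hCc : C.ncard ≤ 4 := by
    have e1 := Set.ncard_insert_le (1 : H) {z, q'⁻¹, q'⁻¹ * z}
    have e2 := Set.ncard_insert_le z {q'⁻¹, q'⁻¹ * z}
    have e3 := Set.ncard_insert_le q'⁻¹ {q'⁻¹ * z}
    rw [Set.ncard_singleton] at e3
    rw [hC]
    omega
  have hCm : ∀ q ∈ Q, q * q' = q' * q → q ∈ C := by
    intro q hq hc
    rcases hsmall q hq hc with h | h | h | h <;> simp [hC, h]
  by_cases hall : ∀ q ∈ Q, q * q' = q' * q
  · have h3 : (Q : Set H) ⊆ C := fun q hq => hCm q hq (hall q hq)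
    have h4 := Set.ncard_le_ncard h3 (Set.toFinite _)
    have h5 : (Q : Set H).ncard = Nat.card Q := rfl
    omega
  · push Not at hall
    obtain ⟨x₁, hx₁, hx₁'⟩ := hall
    have h3 : (Q : Set H) ⊆ C ∪ (fun y => x₁ * y) '' C := by
      intro q hq
      by_cases hc : q * q' = q' * q
      · exact Or.inl (hCm q hq hc)
      · right
        refine ⟨x₁⁻¹ * q, hCm _ (Q.mul_mem (Q.inv_mem hx₁) hq) ?_, by group⟩
        have e : ∀ y ∈ Q, y * q' ≠ q' * y → y * q' = z * (q' * y) := by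
          intro y hy hne
          rcases S.commutator hy hq' with h | h
          · exfalso
            apply hne
            calc y * q' = (y * q' * y⁻¹ * q'⁻¹) * (q' * y) := by group
              _ = q' * y := by rw [h, one_mul]
          · calc y * q' = (y * q' * y⁻¹ * q'⁻¹) * (q' * y) := by group
              _ = z * (q' * y) := by rw [h]
        have e1 := e q hq hc
        have e2 := e x₁ hx₁ hx₁'
        -- `x₁⁻¹ q q' = x₁⁻¹ z q' q = z x₁⁻¹ q' q`, `q' x₁⁻¹ = z x₁⁻¹ q'`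
        have hz := S.z_comm (Q.inv_mem hx₁)
        have e3 : q' * x₁⁻¹ = x₁⁻¹ * z * q' := by
          calc q' * x₁⁻¹ = x₁⁻¹ * (x₁ * q') * x₁⁻¹ := by group
            _ = x₁⁻¹ * z * q' := by rw [e2]; group
        calc x₁⁻¹ * q * q' = x₁⁻¹ * (q * q') := by group
          _ = x₁⁻¹ * z * q' * q := by rw [e1]; group
          _ = q' * x₁⁻¹ * q := by rw [e3]
          _ = q' * (x₁⁻¹ * q) := by group
    have h4 := Set.ncard_le_ncard h3 (Set.toFinite _)
    have h5 : (Q : Set H).ncard = Nat.card Q := rfl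
    have h6 := Set.ncard_union_le C ((fun y => x₁ * y) '' C)
    have h7 := Set.ncard_image_le (f := fun y => x₁ * y) (Set.toFinite C)
    omega


/-- `h` acts as a transvection with centre `β` (or trivially) -/
def Rk1 (h : H) (β : M) : Prop := ∀ m : M, h • m = m ∨ h • m = m * β

omit S in
theorem Rk1.conj {h : H} {β : M} (hh : Rk1 h β) (u : H) : Rk1 (u * h * u⁻¹) (u • β) := by
  intro m
  rcases hh (u⁻¹ • m) with h1 | h1
  · left
    rw [mul_smul, mul_smul, h1, smul_inv_smul]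
  · right
    rw [mul_smul, mul_smul, h1, smul_mul', smul_inv_smul]

/-- **The case `|M : M₁| = 2`: `z` is a transvection** -/
theorem false_tv (hidx : ∀ x y : M, x ∉ M₁ → y ∉ M₁ → x * y⁻¹ ∈ M₁) (hne : ∃ m : M, m ∉ M₁)
    (hcen : ∀ r ∈ Q, (∀ x ∈ Q, r * x = x * r) → r = 1 ∨ r = z) {k : H}
    (htz : (k * z * k⁻¹) * z = z * (k * z * k⁻¹)) (htQ : ∀ q ∈ Q, (k * z * k⁻¹) * q * (k * z * k⁻¹)⁻¹ ∈ Q) {q : H}
    (hq : q ∈ Q) (hq1 : (k * z * k⁻¹) * q * (k * z * k⁻¹)⁻¹ * q⁻¹ ≠ 1)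
    (hqz : (k * z * k⁻¹) * q * (k * z * k⁻¹)⁻¹ * q⁻¹ ≠ z) : False := by
  obtain ⟨m₁, hm₁⟩ := hne
  obtain ⟨v, hv⟩ : ∃ v, v = z • m₁ * m₁⁻¹ := ⟨_, rfl⟩
  have hvF : v ∈ F := by rw [hv]; exact S.z_F m₁
  -- the action of `z`
  have hzm : ∀ m : M, m ∉ M₁ → z • m = m * v := by
    intro m hm
    have h3 := S.z_fix (hidx m m₁ hm hm₁)
    have h4 : m = (m * m₁⁻¹) * m₁ := by group
    conv_lhs => rw [h4, smul_mul', h3]
    have h5 : z • m₁ = v * m₁ := by rw [hv]; group
    rw [h5, S.comm v m₁]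
    group
  have hv1 : v ≠ 1 := by
    intro h
    apply S.z_ne
    refine S.faith _ fun m => ?_
    by_cases hm : m ∈ M₁
    · exact S.z_fix hm
    · rw [hzm m hm, h, mul_one]
  have hfixM : ∀ m : M, z • m = m → m ∈ M₁ := by
    intro m h
    by_contra hm
    rw [hzm m hm] at h
    exact hv1 (mul_left_cancel (h.trans (mul_one m).symm))
  have hzr : Rk1 z v := fun m => by
    by_cases hm : m ∈ M₁
    · exact Or.inl (S.z_fix hm)
    · exact Or.inr (hzm m hm)
  have hzv : z • v = v := S.hF z S.z_mem v hvF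
  obtain ⟨t, ht⟩ : ∃ t, t = k * z * k⁻¹ := ⟨_, rfl⟩
  obtain ⟨α, hα⟩ : ∃ α, α = k • v := ⟨_, rfl⟩
  have htr : Rk1 t α := by rw [ht, hα]; exact hzr.conj k
  rw [← ht] at htz htQ hq1 hqz
  have htα : t • α = α := by
    rw [ht, hα, mul_smul, mul_smul, inv_smul_smul, hzv]
  have htt : t * t = 1 := by
    rw [ht]
    calc k * z * k⁻¹ * (k * z * k⁻¹) = k * (z * z) * k⁻¹ := by group
      _ = 1 := by rw [S.z_sq]; group
  have hti : t⁻¹ = t := inv_eq_of_mul_eq_one_right htt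
  have ht1 : t ≠ 1 := by
    intro h
    apply S.z_ne
    calc z = k⁻¹ * (k * z * k⁻¹) * k := by group
      _ = 1 := by rw [← ht, h]; group
  have hα1 : α ≠ 1 := by
    intro h
    apply hv1
    rw [h] at hα
    calc v = k⁻¹ • (k • v) := (inv_smul_smul k v).symm
      _ = 1 := by rw [← hα, smul_one]
  have hαα : α * α = 1 := S.sq α
  have hαi : α⁻¹ = α := inv_eq_of_mul_eq_one_right hαα
  -- `z α = α`, `α ∈ M₁`
  have hzα : z • α = α := by
    obtain ⟨m, hm⟩ : ∃ m : M, t • m ≠ m := by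
      by_contra hc
      push Not at hc
      exact ht1 (S.faith _ hc)
    have h3 := (htr m).resolve_left hm
    have h4 : z • (t • m) = t • (z • m) := by rw [← mul_smul, ← mul_smul, htz]
    rw [h3, smul_mul'] at h4
    rcases htr (z • m) with h5 | h5
    · rw [h5] at h4
      have h6 : z • α = 1 := mul_left_cancel (h4.trans (mul_one _).symm)
      exfalso
      apply hα1
      calc α = z⁻¹ • (z • α) := (inv_smul_smul z α).symm
        _ = 1 := by rw [h6, smul_one]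
    · rw [h5] at h4
      exact mul_left_cancel h4
  have hαM : α ∈ M₁ := hfixM α hzα
  have main : ∀ q ∈ Q, t * q * t⁻¹ * q⁻¹ ≠ 1 → t * q * t⁻¹ * q⁻¹ ≠ z → α ∉ F ∧
      t * (q * t * q⁻¹) = (q * t * q⁻¹) * t ∧ ∀ m : M, (t • m = m ↔ (q * t * q⁻¹) • m = m) ↔ m ∈ M₁ := by
    clear hq hq1 hqz q
    intro q hq hq1 hqz
    -- the element `r`
    obtain ⟨r, hr⟩ : ∃ r, r = t * (q * t * q⁻¹) := ⟨_, rfl⟩
    have hre : t * q * t⁻¹ * q⁻¹ = r := by rw [hr, hti]; group
    rw [hre] at hq1 hqz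
    have hrQ : r ∈ Q := by
      rw [← hre]
      exact Q.mul_mem (htQ q hq) (Q.inv_mem hq)
    have hrn : ∀ m : M, m ∉ M₁ → r • m * m⁻¹ ∉ F := by
      intro m hm hc
      have hall : ∀ m' : M, r • m' * m'⁻¹ ∈ F := by
        intro m'
        by_cases hm' : m' ∈ M₁
        · exact S.h2 r hrQ m' hm'
        · have h3 : m' = (m' * m⁻¹) * m := by group
          rw [h3, d_mulr r _ _ S.comm]
          exact F.mul_mem (S.h2 r hrQ _ (hidx m' m hm' hm)) hc
      rcases S.hD r hrQ hall with h | h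
      · exact hq1 h
      · exact hqz h
    have hrM : ∀ x ∈ M₁, r • x * x⁻¹ ∈ F := fun x hx => S.h2 r hrQ x hx
    obtain ⟨α', hα'⟩ : ∃ α', α' = q • α := ⟨_, rfl⟩
    obtain ⟨t', ht'⟩ : ∃ t', t' = q * t * q⁻¹ := ⟨_, rfl⟩
    rw [← ht'] at hr
    have htr' : Rk1 t' α' := by rw [ht', hα']; exact htr.conj q
    have hαF' : α' * α⁻¹ ∈ F := by rw [hα']; exact S.h2 q hq α hαM
    have hαM' : α' ∈ M₁ := by rw [hα']; exact S.stab hq hαM
    have htα' : t' • α' = α' := by
      rw [ht', hα', mul_smul, mul_smul, inv_smul_smul, htα]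
    have hαα' : α' * α' = 1 := S.sq α'
    have hαi' : α'⁻¹ = α' := inv_eq_of_mul_eq_one_right hαα'
    have hiff : α ∈ F ↔ α' ∈ F := by
      constructor
      · intro h
        have h3 := F.mul_mem hαF' h
        rwa [inv_mul_cancel_right] at h3
      · intro h
        have h3 := F.mul_mem (F.inv_mem hαF') h
        have h4 : (α' * α⁻¹)⁻¹ * α' = α := by group
        rwa [h4] at h3
    -- `α ∉ F`
    have hαF : α ∉ F := by
      intro h
      have h' := hiff.1 h
      apply hrn m₁ hm₁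
      rw [hr, d_mul]
      have h3 : ∀ m : M, t • m * m⁻¹ ∈ F := by
        intro m
        rcases htr m with h4 | h4
        · rw [h4, mul_inv_cancel]; exact F.one_mem
        · rw [h4, S.comm m α, mul_inv_cancel_right]; exact h
      have h5 : t' • m₁ * m₁⁻¹ ∈ F := by
        rcases htr' m₁ with h4 | h4
        · rw [h4, mul_inv_cancel]; exact F.one_mem
        · rw [h4, S.comm m₁ α', mul_inv_cancel_right]; exact h'
      refine F.mul_mem ?_ (h3 m₁)
      have h6 := F.mul_mem (h3 (t' • m₁ * m₁⁻¹)) h5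
      rwa [inv_mul_cancel_right] at h6
    have hαF2 : α' ∉ F := fun h => hαF (hiff.2 h)
    -- `t`, `t'` commute
    have h_tα' : t • α' = α' := by
      rcases htr α' with h | h
      · exact h
      · exfalso
        have h3 := hrM α' hαM'
        rw [hr, mul_smul, htα', h, S.comm α' α, mul_inv_cancel_right] at h3
        exact hαF h3
    have h_t'α : t' • α = α := by
      rcases htr' α with h | h
      · exact h
      · exfalso
        have h3 := hrM α hαM
        rw [hr, mul_smul, h, smul_mul', htα, h_tα', S.comm α α', mul_inv_cancel_right] at h3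
        exact hαF2 h3
    have hcomm : t * t' = t' * t := by
      have h3 : (t' * t)⁻¹ * (t * t') = 1 := by
        refine S.faith _ fun m => ?_
        rw [mul_smul, inv_smul_eq_iff, mul_smul, mul_smul]
        rcases htr m with h | h <;> rcases htr' m with h' | h'
        · rw [h', h, h']
        · rw [h', h, smul_mul', h_tα', h, h']
        · rw [h', h, smul_mul', h_t'α, h']
        · rw [h', h, smul_mul', smul_mul', h_tα', h_t'α, h, h', mul_assoc, mul_assoc, S.comm α α']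
      exact (inv_mul_eq_one.1 h3).symm
    -- the fixed points of `t` and of `u t u⁻¹`
    rw [← ht']
    refine ⟨hαF, hcomm, ?_⟩
    intro m
    have key : r • m * m⁻¹ ∈ F ↔ (t • m = m ↔ t' • m = m) := by
      rw [hr, mul_smul]
      rcases htr m with h | h <;> rcases htr' m with h' | h'
      · rw [h', h, mul_inv_cancel]
        simp [F.one_mem]
      · rw [h', smul_mul', h_tα', h, S.comm m α', mul_inv_cancel_right]
        refine ⟨fun h3 => absurd h3 hαF2, fun h3 => ?_⟩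
        have h4 := h3.1 rfl
        exfalso
        apply hαF2
        have h5 : α' = 1 := mul_right_cancel (h4.trans (one_mul m).symm)
        rw [h5]; exact F.one_mem
      · rw [h', h, S.comm m α, mul_inv_cancel_right]
        refine ⟨fun h3 => absurd h3 hαF, fun h3 => ?_⟩
        have h4 := h3.2 rfl
        exfalso
        have h5 : α = 1 := mul_right_cancel (h4.trans (one_mul m).symm)
        exact hα1 h5
      · rw [h', smul_mul', h_tα', h]
        have h3 : m * α * α' * m⁻¹ = α' * α⁻¹ := by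
          rw [hαi, mul_assoc m, S.comm m, mul_inv_cancel_right, S.comm]
        rw [h3]
        refine ⟨fun _ => ⟨fun h4 => ?_, fun h4 => ?_⟩, fun _ => hαF'⟩
        · exact absurd (mul_left_cancel (h4.trans (mul_one m).symm)) hα1
        · have h5 : α' = 1 := mul_left_cancel (h4.trans (mul_one m).symm)
          exact absurd (by rw [h5]; exact F.one_mem) hαF2
    rw [← key]
    exact ⟨fun h3 => by by_contra hm; exact hrn m hm h3, fun hm => hrM m hm⟩
  obtain ⟨hαF, hcomm, hfp⟩ := main q hq hq1 hqz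
  have hconjne : ∀ u : H, u ∈ Q → t * u * t⁻¹ * u⁻¹ = z → False := by
    intro u hu huz
    have hut : u * t * u⁻¹ = t * z := by
      have e1 : t * u * t⁻¹ * u⁻¹ = t * (u * t * u⁻¹) := by rw [hti]; group
      rw [e1] at huz
      calc u * t * u⁻¹ = t⁻¹ * (t * (u * t * u⁻¹)) := by group
        _ = t * z := by rw [huz, hti]
    have hur : Rk1 (t * z) (u • α) := by rw [← hut]; exact htr.conj u
    -- `x ∈ M₁`, `t x ≠ x`
    obtain ⟨x, hx, hxt⟩ : ∃ x ∈ M₁, t • x ≠ x := by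
      by_contra hc
      push Not at hc
      have h3 : ∀ m : M, m ∉ M₁ → t • m ≠ m := by
        intro m hm h4
        apply ht1
        refine S.faith _ fun m' => ?_
        by_cases hm' : m' ∈ M₁
        · exact hc m' hm'
        · have h5 : m' = (m' * m⁻¹) * m := by group
          rw [h5, smul_mul', hc _ (hidx m' m hm' hm), h4]
      have h4 : (q * t * q⁻¹) • m₁ ≠ m₁ := by
        intro h5
        rw [mul_smul, mul_smul, ← eq_inv_smul_iff] at h5
        refine h3 (q⁻¹ • m₁) (fun h6 => hm₁ ?_) h5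
        have h7 := S.stab hq h6
        rwa [smul_inv_smul] at h7
      exact hm₁ ((hfp m₁).1 ⟨fun h5 => absurd h5 (h3 m₁ hm₁), fun h5 => absurd h5 h4⟩)
    -- `m ∉ M₁`, `t m = m`
    obtain ⟨m, hm, hmt⟩ : ∃ m : M, m ∉ M₁ ∧ t • m = m := by
      by_cases h3 : t • m₁ = m₁
      · exact ⟨m₁, hm₁, h3⟩
      · refine ⟨m₁ * x, fun h4 => hm₁ ?_, ?_⟩
        · have h5 := M₁.mul_mem h4 (M₁.inv_mem hx)
          rwa [mul_inv_cancel_right] at h5
        · rw [smul_mul', (htr m₁).resolve_left h3, (htr x).resolve_left hxt, mul_assoc, ← mul_assoc α, S.comm α x,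
            mul_assoc x, hαα, mul_one]
    have e1 : (t * z) • x = x * α := by rw [mul_smul, S.z_fix hx, (htr x).resolve_left hxt]
    have e2 : (t * z) • m = m * v := by rw [htz, mul_smul, hmt, hzm m hm]
    have e3 : u • α = α := by
      rcases hur x with h | h
      · exact absurd (mul_left_cancel (e1.symm.trans (h.trans (mul_one x).symm))) hα1
      · exact (mul_left_cancel (e1.symm.trans h)).symm
    rw [e3] at hur
    rcases hur m with h | h
    · exact hv1 (mul_left_cancel (e2.symm.trans (h.trans (mul_one m).symm)))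
    · have h4 : v = α := mul_left_cancel (e2.symm.trans h)
      exact hαF (h4 ▸ hvF)
  -- elements of `Q` with `[t, u] ∈ {1, z}` commute with `t`
  have hct : ∀ u ∈ Q, (t * u * t⁻¹ * u⁻¹ = 1 ∨ t * u * t⁻¹ * u⁻¹ = z) → t * u = u * t := by
    intro u hu h
    rcases h with h | h
    · calc t * u = (t * u * t⁻¹ * u⁻¹) * (u * t) := by group
        _ = u * t := by rw [h, one_mul]
    · exact absurd h (fun h => hconjne u hu h)
  -- two elements not commuting with `t` differ by an element commuting with `t`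
  have hdiff : ∀ x ∈ Q, t * x ≠ x * t → t * (q⁻¹ * x) = (q⁻¹ * x) * t := by
    intro x hx hne
    have hu : q⁻¹ * x ∈ Q := Q.mul_mem (Q.inv_mem hq) hx
    apply hct _ hu
    by_contra hc
    push Not at hc
    have hx' : t * x * t⁻¹ * x⁻¹ ≠ 1 ∧ t * x * t⁻¹ * x⁻¹ ≠ z :=
      ⟨fun h => hne (hct x hx (Or.inl h)), fun h => hne (hct x hx (Or.inr h))⟩
    obtain ⟨-, -, f1⟩ := main x hx hx'.1 hx'.2
    obtain ⟨-, -, f2⟩ := main _ hu hc.1 hc.2
    -- `m ∉ M₁`
    have h3 : (t • m₁ = m₁ ↔ ((q⁻¹ * x) * t * (q⁻¹ * x)⁻¹) • m₁ = m₁) := by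
      have e1 : ((q⁻¹ * x) * t * (q⁻¹ * x)⁻¹) • m₁ = m₁ ↔ (x * t * x⁻¹) • (q • m₁) = q • m₁ := by
        have e : (q⁻¹ * x) * t * (q⁻¹ * x)⁻¹ = q⁻¹ * (x * t * x⁻¹) * q := by group
        rw [e, mul_smul, mul_smul, inv_smul_eq_iff]
      have e2 : (q * t * q⁻¹) • (q • m₁) = q • m₁ ↔ t • m₁ = m₁ := by
        rw [mul_smul, mul_smul, inv_smul_smul, smul_left_cancel_iff]
      have hqm : q • m₁ ∉ M₁ := fun h => hm₁ (by
        have := S.stab (Q.inv_mem hq) h
        rwa [inv_smul_smul] at this)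
      have g1 := not_congr (f1 (q • m₁))
      have g2 := not_congr (hfp (q • m₁))
      rw [e1, ← e2]
      tauto
    exact hm₁ ((f2 m₁).1 h3)
  -- `r` is central in `Q`
  obtain ⟨r, hr⟩ : ∃ r, r = t * (q * t * q⁻¹) := ⟨_, rfl⟩
  have hre : t * q * t⁻¹ * q⁻¹ = r := by rw [hr, hti]; group
  rw [hre] at hq1 hqz
  have hrQ : r ∈ Q := by
    rw [← hre]
    exact Q.mul_mem (htQ q hq) (Q.inv_mem hq)
  have hrc : ∀ u ∈ Q, t * u = u * t → r * u = u * r := by
    intro u hu hut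
    have h3 : u * (q * t * q⁻¹) = (q * t * q⁻¹) * u := by
      have hc := S.commutator (Q.inv_mem hq) hu
      have hcom : ∀ c : H, (c = 1 ∨ c = z) → c * t = t * c ∧ ∀ y ∈ Q, c * y = y * c := by
        rintro c (rfl | rfl)
        · exact ⟨by rw [one_mul, mul_one], fun y _ => by rw [one_mul, mul_one]⟩
        · exact ⟨htz.symm, fun y hy => (S.z_comm hy).symm⟩
      obtain ⟨c1, c2⟩ := hcom _ hc
      -- `q⁻¹ u = c u q⁻¹`
      set c := q⁻¹ * u * q⁻¹⁻¹ * u⁻¹ with hcd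
      have e1 : q⁻¹ * u = c * (u * q⁻¹) := by rw [hcd]; group
      have e2 : u * q⁻¹ = c⁻¹ * (q⁻¹ * u) := by rw [e1]; group
      have e3 : u * q = q * (c * u) := by
        have h5 : c * u * q⁻¹ = q⁻¹ * u := by rw [e1, mul_assoc]
        calc u * q = q * (q⁻¹ * u) * q := by group
          _ = q * (c * u * q⁻¹) * q := by rw [h5]
          _ = _ := by group
      calc u * (q * t * q⁻¹) = (u * q) * t * q⁻¹ := by group
        _ = q * (c * u) * t * q⁻¹ := by rw [e3]
        _ = q * c * (u * t) * q⁻¹ := by group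
        _ = q * (c * t) * (u * q⁻¹) := by rw [← hut]; group
        _ = q * (t * c) * (c⁻¹ * (q⁻¹ * u)) := by rw [c1, e2]
        _ = (q * t * q⁻¹) * u := by group
    rw [hr]
    calc t * (q * t * q⁻¹) * u = t * (u * (q * t * q⁻¹)) := by rw [h3]; group
      _ = (t * u) * (q * t * q⁻¹) := by group
      _ = u * (t * (q * t * q⁻¹)) := by rw [hut]; group
  have hqq : t * (q * q) = (q * q) * t := by
    rcases S.square hq with h | h
    · rw [h, one_mul, mul_one]
    · rw [h, htz]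
  have hrq : r * q = q * r := by
    have e1 : q * (q * t * q⁻¹) * q⁻¹ = t := by
      calc q * (q * t * q⁻¹) * q⁻¹ = ((q * q) * t) * (q * q)⁻¹ := by group
        _ = t := by rw [← hqq]; group
    have e2 : q * r * q⁻¹ = r := by
      calc q * r * q⁻¹ = (q * t * q⁻¹) * (q * (q * t * q⁻¹) * q⁻¹) := by rw [hr]; group
        _ = (q * t * q⁻¹) * t := by rw [e1]
        _ = r := by rw [← hcomm, hr]
    calc r * q = (q * r * q⁻¹) * q := by rw [e2]
      _ = q * r := by group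
  have hall : ∀ x ∈ Q, r * x = x * r := by
    intro x hx
    by_cases hxt : t * x = x * t
    · exact hrc x hx hxt
    · have h3 := hrc _ (Q.mul_mem (Q.inv_mem hq) hx) (hdiff x hx hxt)
      calc r * x = (r * q) * (q⁻¹ * x) := by group
        _ = q * (r * (q⁻¹ * x)) := by rw [hrq]; group
        _ = x * r := by rw [h3]; group
  rcases hcen r hrQ hall with h | h
  · exact hq1 h
  · exact hqz h

end Sit

end Cfsg.Agent.Omega.ML.ExEx.Kill

end

section


/-!
# K-list "exact + low": THEOREM EX in the exact form (helper96)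

* `Dat.false_ex` : in the situation `Dat H G E Q n`, `n ≥ 2`, there is no `A ≤ Q` with `|A| > 2`, `|M| ≤ |A||C_M(A)|`, if
  every central element `z ≠ 1` of `Q` has a conjugate which commutes with `z`, normalises `Q` and moves `Q / ⟨z⟩`
  (no atom, no sub-exactness, `A` need not be abelian).
-/

set_option autoImplicit false

namespace Cfsg.Agent.Omega.ML.ExEx.DatEx

open Subgroup Cfsg Cfsg.Agent.ClassTwoFusion.Quad Cfsg.Agent.Omega.NOThree.NoOver Cfsg.Agent.Omega.ML.CD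
open Cfsg.Agent.ZN (o2)
open Cfsg.Agent.Omega.ML.Rows Cfsg.Agent.Omega.ML.ExCore Cfsg.Agent.Omega.ML.ExRec Cfsg.Agent.Omega.ML.ExRow
open Cfsg.Agent.Omega.ML.ExEx.Core Cfsg.Agent.Omega.ML.ExEx.Kill

universe u v w

section

variable {H : Type u} [Group H] [Finite H] {M : Type v} [Group M] [Finite M] [MulDistribMulAction H M]
  {G E Q A : Subgroup H} {n : ℕ}

omit [Finite H] in
theorem exists_of_card_le_two {H : Type u} [Group H] [Finite H] {D : Subgroup H} (h : Nat.card D ≤ 2) : ∃ z : H, ∀ d ∈ D, d = 1 ∨ d = z := by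
  by_cases h1 : ∀ d ∈ D, d = 1
  · exact ⟨1, fun d hd => Or.inl (h1 d hd)⟩
  · push Not at h1
    obtain ⟨z, hz, hz1⟩ := h1
    refine ⟨z, fun d hd => ?_⟩
    by_contra hc
    push Not at hc
    have h2 : ({1, z, d} : Set H) ⊆ D := by
      rintro x (rfl | rfl | rfl)
      · exact D.one_mem
      · exact hz
      · exact hd
    have h3 := Set.ncard_le_ncard h2 (Set.toFinite _)
    have h4 : ({1, z, d} : Set H).ncard = 3 := by
      rw [Set.ncard_insert_of_notMem, Set.ncard_pair (Ne.symm hc.2)]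
      rintro (h5 | h5)
      · exact hz1 h5.symm
      · exact hc.1 h5.symm
    have h5 : (D : Set H).ncard = Nat.card D := rfl
    omega

/-- `Q` is strict or everything is exact -/
theorem index_eq_of_dat (D : Dat.{u, v} H G E Q n) (sq : ∀ m : M, m * m = 1)
    (faith : ∀ h : H, (∀ m : M, h • m = m) → h = 1) (hAQ : A ≤ Q) (hge : Nat.card M ≤ fab M 1 1 A)
    (h2 : 2 < Nat.card A) : (cv M (Q : Set H)).index = Nat.card Q := by
  have hf := ls_fab (H := H) M 1 1
  have hGQ : G ≤ normalizer (Q : Set H) := by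
    intro g hg
    rw [mem_normalizer_iff]
    intro x
    refine ⟨fun hx => D.nQ g hg x hx, fun hx => ?_⟩
    have h5 := D.nQ g⁻¹ (G.inv_mem hg) _ hx
    have h6 : g⁻¹ * (g * x * g⁻¹) * g⁻¹⁻¹ = x := by group
    rwa [h6] at h5
  by_cases hfl : ∀ B ≤ Q, fab M 1 1 B ≤ fab M 1 1 (⊥ : Subgroup H)
  · -- `Q` is exact
    have hbot : fab M 1 1 (⊥ : Subgroup H) = Nat.card M := by rw [fab_bot, pow_one]
    have hA : Best (fab M 1 1) Q A := ⟨hAQ, fun B hB => (hfl B hB).trans (by rw [hbot]; exact hge)⟩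
    have hhi : hi (fab M 1 1) Q = Q := by
      have h5 := hGQ.trans (hf.normalizer_le_hi Q)
      refine (D.irr _ (hf.hi_le_self Q) fun l hl x hx => ?_).resolve_left fun h6 => ?_
      · exact (mem_normalizer_iff.1 (h5 (D.EG hl)) x).1 hx
      · have h7 := card_le_of_le (le_hi hA)
        omega
    have h8 := (hf.best_hi Q).2 ⊥ bot_le
    rw [hhi] at h8
    have h9 := le_antisymm (hfl Q le_rfl) h8
    rw [hbot, fab_one, fo, ← card_mul_index (cv M (Q : Set H)), mul_comm] at h9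
    exact (Nat.eq_of_mul_eq_mul_left Nat.card_pos h9).symm
  · -- `Q` is strict
    exfalso
    have hne : lo (fab M 1 1) Q ≠ ⊥ := by
      intro h
      exact hfl ((lo_eq_bot_iff hf).1 h)
    have hst := hf.strict_lo Q
    have h5 := hGQ.trans (hf.normalizer_le_lo Q)
    have hlo : lo (fab M 1 1) Q = Q := by
      refine (D.irr _ (hf.lo_le_self Q) fun l hl x hx => ?_).resolve_left fun h6 => ?_
      · exact (mem_normalizer_iff.1 (h5 (D.EG hl)) x).1 hx
      · -- a strict subgroup of order 2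
        have h7 := hst ⊥ (bot_lt_iff_ne_bot.2 hne)
        rw [fab_lt_iff bot_le, pow_one, pow_one, relIndex_bot_left, cv_bot, relIndex_top_right] at h7
        have h8 : (cv M (lo (fab M 1 1) Q : Set H)).index < 2 := lt_of_lt_of_le h7 h6
        have h9 : (cv M (lo (fab M 1 1) Q : Set H)).index ≠ 0 := index_ne_zero_of_finite
        have h10 : cv M (lo (fab M 1 1) Q : Set H) = ⊤ := index_eq_one.1 (by omega)
        apply hne
        rw [eq_bot_iff]
        intro x hx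
        rw [mem_bot]
        apply faith
        intro m
        have h11 : m ∈ cv M (lo (fab M 1 1) Q : Set H) := h10 ▸ mem_top m
        exact h11 x hx
    rw [hlo] at hst
    exact D.false sq faith le_rfl hst (lt_of_lt_of_le h2 (card_le_of_le hAQ))

/-- **THEOREM EX, exact form** -/
theorem _root_.Cfsg.Agent.Omega.ML.ExRow.Dat.false_ex (D : Dat.{u, v} H G E Q n) (hn : 2 ≤ n)
    (sq : ∀ m : M, m * m = 1) (faith : ∀ h : H, (∀ m : M, h • m = m) → h = 1)
    (hAQ : A ≤ Q) (hge : Nat.card M ≤ fab M 1 1 A) (h2 : 2 < Nat.card A)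
    (yt : ∀ z ∈ Q, z ≠ 1 → (∀ q ∈ Q, z * q = q * z) → ∃ k : H, (k * z * k⁻¹) * z = z * (k * z * k⁻¹) ∧
      (∀ q ∈ Q, (k * z * k⁻¹) * q * (k * z * k⁻¹)⁻¹ ∈ Q) ∧
      ∃ q ∈ Q, (k * z * k⁻¹) * q * (k * z * k⁻¹)⁻¹ * q⁻¹ ≠ 1 ∧ (k * z * k⁻¹) * q * (k * z * k⁻¹)⁻¹ * q⁻¹ ≠ z) :
    False := by
  have hcomm := ExCore.comm_of_sq (N := M) sq
  have hidx := index_eq_of_dat D sq faith hAQ hge h2
  obtain ⟨F, hF⟩ : ∃ F : Subgroup M, F = cv M (Q : Set H) := ⟨_, rfl⟩
  have hmF : ∀ {m : M}, m ∈ F ↔ ∀ q ∈ Q, q • m = m := by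
    intro m
    rw [hF]
    exact Iff.rfl
  rw [← hF, D.card] at hidx
  have hFn : F.Normal := normal_of_sq sq F
  have hidx' : Nat.card (M ⧸ F) ≤ 2 ^ (2 * n + 1) := hidx.le
  -- `G` acts on `M / F`
  have hFG : ∀ (g : G), ∀ x ∈ F, g • x ∈ F := by
    intro g x hx
    rw [hmF] at hx ⊢
    intro q hq
    have h1 := D.nQ _ (G.inv_mem g.2) q hq
    rw [inv_inv] at h1
    have h2 := hx _ h1
    change q • (g : H) • x = (g : H) • x
    rw [mul_smul, mul_smul, inv_smul_eq_iff] at h2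
    exact h2
  let _ : MulDistribMulAction G (M ⧸ F) := quoA (L := G) F hFG
  have hQn : (Q.subgroupOf G).Normal := ⟨fun q hq g => D.nQ g g.2 q hq⟩
  have hcore := core2 (L := G) (N := M ⧸ F) (fun x => by
      obtain ⟨m, rfl⟩ := QuotientGroup.mk_surjective x
      exact congrArg (QuotientGroup.mk (s := F)) (sq m)) (Q := Q.subgroupOf G) (E := E.subgroupOf G) hQn
    (D.two.comap_of_injective _ G.subtype_injective) hidx' (by
      intro B hB hBE
      have h1 : B.map G.subtype ≤ Q := by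
        rintro _ ⟨b, hb, rfl⟩
        exact hB hb
      have h3 : Nat.card (B.map G.subtype) = Nat.card B := card_map_of_injective G.subtype_injective
      have h4 : B.relIndex (Q.subgroupOf G) = (B.map G.subtype).relIndex Q := by
        have h5 : (Q.subgroupOf G).map G.subtype = Q := by rw [subgroupOf_map_subtype, inf_eq_left.2 D.QG]
        rw [← relIndex_map_map_of_injective B (Q.subgroupOf G) G.subtype_injective, h5]
      rcases D.irr _ h1 (by
        rintro l hl _ ⟨b, hb, rfl⟩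
        exact ⟨⟨l, D.EG hl⟩ * b * ⟨l, D.EG hl⟩⁻¹, hBE ⟨l, D.EG hl⟩ hl b hb, rfl⟩) with h6 | h6
      · left
        rw [h4]
        exact D.le_relIndex h1 h6
      · right
        ext x
        rw [mem_subgroupOf, ← h6]
        constructor
        · intro hx
          exact ⟨x, hx, rfl⟩
        · rintro ⟨y, hy, hyx⟩
          rwa [← Subtype.ext hyx]) D.triv
  -- the elements of `Q` trivial on `M / F`
  let DD : Subgroup H :=
    { carrier := {q | q ∈ Q ∧ ∀ m : M, q • m * m⁻¹ ∈ F}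
      one_mem' := ⟨Q.one_mem, fun m => by rw [one_smul, mul_inv_cancel]; exact F.one_mem⟩
      mul_mem' := fun {a b} ha hb => ⟨Q.mul_mem ha.1 hb.1, fun m => by
        rw [d_mul]
        refine F.mul_mem ?_ (ha.2 m)
        have h3 := F.mul_mem (ha.2 (b • m * m⁻¹)) (hb.2 m)
        rwa [inv_mul_cancel_right] at h3⟩
      inv_mem' := fun {a} ha => ⟨Q.inv_mem ha.1, fun m => by
        have h3 := F.inv_mem (ha.2 (a⁻¹ • m))
        rw [smul_inv_smul, mul_inv_rev, inv_inv] at h3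
        exact h3⟩ }
  have hDD : ∀ {q : H}, q ∈ DD ↔ q ∈ Q ∧ ∀ m : M, q • m * m⁻¹ ∈ F := Iff.rfl
  have hDDinv : ∀ l ∈ E, ∀ x ∈ DD, l * x * l⁻¹ ∈ DD := by
    intro l hl x hx
    refine ⟨D.nQ l (D.EG hl) x hx.1, fun m => ?_⟩
    have h3 := hFG ⟨l, D.EG hl⟩ _ (hx.2 (l⁻¹ • m))
    change l • (x • (l⁻¹ • m) * (l⁻¹ • m)⁻¹) ∈ F at h3
    rw [smul_mul', smul_inv', smul_inv_smul] at h3
    rw [mul_smul, mul_smul]
    exact h3
  rcases D.irr DD (fun q hq => hq.1) hDDinv with hDD2 | hDDQ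
  · -- the equality cases
    obtain ⟨z, hz⟩ := exists_of_card_le_two hDD2
    rcases hcore with hcore | ⟨N₁, hinv, hb1, hfix, hcase⟩
    · -- `Q` is trivial on `M / F`
      have h3 : Q ≤ DD := by
        intro q hq
        refine ⟨hq, fun m => ?_⟩
        have h1 := hcore ⟨q, D.QG hq⟩ hq (QuotientGroup.mk m)
        have h2 : (QuotientGroup.mk (q • m) : M ⧸ F) = QuotientGroup.mk m := h1
        rw [eq_comm, QuotientGroup.eq] at h2
        rwa [hcomm] at h2
      have h4 := card_le_of_le h3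
      have h5 := card_le_of_le hAQ
      omega
    · obtain ⟨M₁, hM₁⟩ : ∃ M₁ : Subgroup M, M₁ = N₁.comap (QuotientGroup.mk' F) := ⟨_, rfl⟩
      have hmM : ∀ {m : M}, m ∈ M₁ ↔ (QuotientGroup.mk m : M ⧸ F) ∈ N₁ := by
        intro m
        rw [hM₁]
        exact Iff.rfl
      have S : Sit Q F M₁ z := by
        refine ⟨sq, faith, ?_, ?_, ?_, ?_, ?_, D.nab⟩
        · intro m hm
          rw [hmM, (QuotientGroup.eq_one_iff m).2 hm]
          exact N₁.one_mem
        · intro q hq x hx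
          exact hmF.1 hx q hq
        · intro q hq m
          rw [hmM]
          exact hb1 ⟨q, D.QG hq⟩ hq (QuotientGroup.mk m)
        · intro q hq x hx
          have h3 := hfix ⟨q, D.QG hq⟩ hq (QuotientGroup.mk x) (hmM.1 hx)
          have h4 : (QuotientGroup.mk (q • x) : M ⧸ F) = QuotientGroup.mk x := h3
          rw [eq_comm, QuotientGroup.eq] at h4
          rwa [hcomm] at h4
        · intro q hq h3
          exact hz q ⟨hq, h3⟩
      rcases hcase with hcase | hcase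
      · -- `|M : M₁| = 2`
        have hi2 : M₁.index = 2 := by
          rw [hM₁, index_comap_of_surjective _ (QuotientGroup.mk'_surjective F)]
          exact hcase
        obtain ⟨k, hk1, hk2, q, hq, hk3, hk4⟩ := yt z S.z_mem S.z_ne fun q hq => (S.z_comm hq).symm
        refine S.false_tv (k := k) (q := q) (fun x y hx hy => ?_) ?_ ?_ hk1 hk2 hq hk3 hk4
        · rw [mul_mem_iff_of_index_two hi2]
          exact ⟨fun h => absurd h hx, fun h => absurd (M₁.inv_mem_iff.1 h) hy⟩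
        · by_contra hc
          push Not at hc
          have h3 : M₁ = ⊤ := (eq_top_iff' M₁).2 hc
          rw [h3, index_top] at hi2
          omega
        · intro r hr hrc
          -- the centre of `Q`
          let ZZ : Subgroup H := Q ⊓ centralizer (Q : Set H)
          have hZZ : ∀ l ∈ E, ∀ x ∈ ZZ, l * x * l⁻¹ ∈ ZZ := by
            intro l hl x hx
            refine ⟨D.nQ l (D.EG hl) x hx.1, mem_centralizer_iff.2 fun y hy => ?_⟩
            have h3 := D.nQ l⁻¹ (G.inv_mem (D.EG hl)) y hy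
            have h4 := mem_centralizer_iff.1 hx.2 _ h3
            calc y * (l * x * l⁻¹) = l * ((l⁻¹ * y * l⁻¹⁻¹) * x) * l⁻¹ := by group
              _ = l * (x * (l⁻¹ * y * l⁻¹⁻¹)) * l⁻¹ := by rw [h4]
              _ = l * x * l⁻¹ * y := by group
          rcases D.irr ZZ inf_le_left hZZ with h3 | h3
          · obtain ⟨z', hz'⟩ := exists_of_card_le_two h3
            have h4 : z ∈ ZZ := ⟨S.z_mem, mem_centralizer_iff.2 fun y hy => S.z_comm hy⟩
            have h5 := (hz' z h4).resolve_left S.z_ne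
            have h6 : r ∈ ZZ := ⟨hr, mem_centralizer_iff.2 fun y hy => (hrc y hy).symm⟩
            rw [h5]
            exact hz' r h6
          · exfalso
            obtain ⟨a, ha, b, hb, hab⟩ := D.nab
            have h4 : b ∈ ZZ := by rw [h3]; exact hb
            exact hab (mem_centralizer_iff.1 h4.2 a ha)
      · -- `|M₁ / F| = 2`
        refine S.false_two (fun x hx y hy hxF hyF => ?_) ?_
        · have h3 : (QuotientGroup.mk x : M ⧸ F) ≠ 1 := fun h => hxF ((QuotientGroup.eq_one_iff x).1 h)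
          have h4 : (QuotientGroup.mk y : M ⧸ F) ≠ 1 := fun h => hyF ((QuotientGroup.eq_one_iff y).1 h)
          have hfin : Finite (M ⧸ F) := inferInstance
          obtain ⟨w, hw⟩ : ∃ w : M ⧸ F, ∀ d ∈ N₁, d = 1 ∨ d = w := exists_of_card_le_two hcase.le
          have h5 := (hw _ (hmM.1 hx)).resolve_left h3
          have h6 := (hw _ (hmM.1 hy)).resolve_left h4
          have h7 : (QuotientGroup.mk (x * y) : M ⧸ F) = 1 := by
            rw [QuotientGroup.mk_mul, h5, h6.symm, ← QuotientGroup.mk_mul, sq, QuotientGroup.mk_one]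
          exact (QuotientGroup.eq_one_iff _).1 h7
        · rw [D.card]
          calc 8 < 2 ^ (2 * 2 + 1) := by norm_num
            _ ≤ 2 ^ (2 * n + 1) := Nat.pow_le_pow_right (by norm_num) (by omega)
  · -- `Q` is trivial on `M / F`
    obtain ⟨a, ha, b, hb, hab⟩ := D.nab
    apply hab
    have hQF : ∀ q ∈ Q, ∀ m : M, q • m * m⁻¹ ∈ F := fun q hq => by
      have h3 : q ∈ DD := by rw [hDDQ]; exact hq
      exact h3.2
    have key : ∀ a ∈ Q, ∀ b ∈ Q, ∀ m : M, (a * b) • m = (b • m * m⁻¹) * ((a • m * m⁻¹) * m) := by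
      intro a ha b hb m
      have h1 := hmF.1 (hQF b hb m) a ha
      have h3 : b • m = (b • m * m⁻¹) * m := by rw [inv_mul_cancel_right]
      rw [mul_smul]
      conv_lhs => rw [h3, smul_mul', h1]
      rw [inv_mul_cancel_right]
    have h1 : (b * a)⁻¹ * (a * b) = 1 := by
      apply faith
      intro m
      rw [mul_smul, inv_smul_eq_iff, key a ha b hb, key b hb a ha, ← mul_assoc (b • m * m⁻¹),
        hcomm (b • m * m⁻¹) (a • m * m⁻¹), mul_assoc]
    exact (inv_mul_eq_one.1 h1).symm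

end

end Cfsg.Agent.Omega.ML.ExEx.DatEx

end

section


/-!
# K-list "exact + low": the rows of groups with a sheet of type (E) and `TrivC` (helper96)

* `mem_of_triv` : in a sheet of type (E): `t ∈ P` trivial on `R / ⟨z⟩` is in `R`;
* `false_of_sub` : the sheet in the simple group `K` excludes an exact `A ≤ R^g` with `|A| > 2`;
* **`deadX_of_sheet`** : the hypotheses of `ExRow.dead_of_sheet` with `SheetE` (`ytrick`) and `2 ≤ n`.
-/

set_option autoImplicit false

namespace Cfsg.Agent.Omega.ML.ExEx.SheetRow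

open Subgroup Cfsg Cfsg.Agent.ClassTwoFusion.Quad Cfsg.Agent.Omega.NOThree.NoOver Cfsg.Agent.Omega.ML.CD
open Cfsg.Agent.ZN (o2)
open Cfsg.Agent.Omega.ML.ExRec Cfsg.Agent.Omega.ML.ExRow Cfsg.Agent.Omega.ML.Ex
open Cfsg.Agent.OddHalf.D8.Sheet Cfsg.Agent.OddHalf.D8.JTwo.Sheet

universe u v

section sheet

variable {K : Type*} [Group K] {z : K} {P R : Subgroup K}

/-- elements of `P` which are trivial on `R / ⟨z⟩` lie in `R` -/
theorem mem_of_triv (h : SheetX z P R) {t : K} (ht : t ∈ P)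
    (hR : ∀ r ∈ R, t * r * t⁻¹ * r⁻¹ = 1 ∨ t * r * t⁻¹ * r⁻¹ = z) : t ∈ R := by
  have hzz := h.zz
  have hmul : ∀ a b : K, (a = 1 ∨ a = z) → (b = 1 ∨ b = z) → (a * b = 1 ∨ a * b = z) := by
    rintro a b (rfl | rfl) (rfl | rfl)
    · exact Or.inl (one_mul _)
    · exact Or.inr (one_mul _)
    · exact Or.inr (mul_one _)
    · exact Or.inl hzz
  have hinv : ∀ a : K, (a = 1 ∨ a = z) → (a⁻¹ = 1 ∨ a⁻¹ = z) := by
    rintro a (rfl | rfl)
    · exact Or.inl inv_one
    · exact Or.inr (inv_eq_of_mul_eq_one_right hzz)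
  have hcm : ∀ a : K, (a = 1 ∨ a = z) → ∀ x ∈ P, x * a = a * x := by
    rintro a (rfl | rfl) x hx
    · rw [mul_one, one_mul]
    · exact h.cen x hx
  let B : Subgroup K :=
    { carrier := {x | x ∈ P ∧ ∀ r ∈ R, x * r * x⁻¹ * r⁻¹ = 1 ∨ x * r * x⁻¹ * r⁻¹ = z}
      one_mem' := ⟨P.one_mem, fun r _ => Or.inl (by group)⟩
      mul_mem' := fun {x y} hx hy => ⟨P.mul_mem hx.1 hy.1, fun r hr => by
        have h1 := hy.2 r hr
        have h2 := hx.2 r hr
        have h3 := hcm _ h1 x hx.1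
        have h4 : x * y * r * (x * y)⁻¹ * r⁻¹ = (y * r * y⁻¹ * r⁻¹) * (x * r * x⁻¹ * r⁻¹) := by
          calc x * y * r * (x * y)⁻¹ * r⁻¹ = (x * (y * r * y⁻¹ * r⁻¹)) * r * x⁻¹ * r⁻¹ := by group
            _ = _ := by rw [h3]; group
        rw [h4]
        exact hmul _ _ h1 h2⟩
      inv_mem' := fun {x} hx => ⟨P.inv_mem hx.1, fun r hr => by
        have hxr : x⁻¹ * r * x ∈ R := by
          have := h.Rn _ (P.inv_mem hx.1) r hr
          rwa [inv_inv] at this
        have h1 := hinv _ (hx.2 _ hxr)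
        have h2 : (x * (x⁻¹ * r * x) * x⁻¹ * (x⁻¹ * r * x)⁻¹)⁻¹ = x⁻¹ * r * x⁻¹⁻¹ * r⁻¹ := by group
        rwa [h2] at h1⟩ }
  have hB : B ≤ R := by
    apply h.Rmax
    · exact fun x hx => hx.1
    · intro x
      -- `x ^ 2` centralises `R`
      have h1 : (x : K) * x ∈ R := by
        apply h.cR _ (P.mul_mem x.2.1 x.2.1)
        intro r hr
        have h2 := x.2.2 r hr
        have h3 := hcm _ h2 x x.2.1
        have h4 : (x : K) * x * r * ((x : K) * x)⁻¹ = ((x : K) * r * (x : K)⁻¹ * r⁻¹) * ((x : K) * r * (x : K)⁻¹ * r⁻¹) * r := by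
          calc (x : K) * x * r * ((x : K) * x)⁻¹ = ((x : K) * ((x : K) * r * (x : K)⁻¹ * r⁻¹)) * r * (x : K)⁻¹ := by group
            _ = _ := by rw [h3]; group
        have h5 : ((x : K) * r * (x : K)⁻¹ * r⁻¹) * ((x : K) * r * (x : K)⁻¹ * r⁻¹) = 1 := by
          rcases h2 with h2 | h2
          · rw [h2, one_mul]
          · rw [h2, hzz]
        rw [h5, one_mul, mul_inv_eq_iff_eq_mul] at h4
        exact h4
      obtain ⟨k, hk⟩ := h.R2 ⟨_, h1⟩
      refine ⟨k + 1, Subtype.ext ?_⟩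
      have h2 : ((x : K) * x) ^ 2 ^ k = 1 := congrArg Subtype.val hk
      change (x : K) ^ 2 ^ (k + 1) = 1
      rw [pow_succ, mul_comm, pow_mul, pow_two]
      exact h2
    · intro p hp x hx
      refine ⟨P.mul_mem (P.mul_mem hp hx.1) (P.inv_mem hp), fun r hr => ?_⟩
      have hpr : p⁻¹ * r * p ∈ R := by
        have := h.Rn _ (P.inv_mem hp) r hr
        rwa [inv_inv] at this
      have h1 := hx.2 _ hpr
      have h2 := hcm _ h1 p hp
      have h3 : p * x * p⁻¹ * r * (p * x * p⁻¹)⁻¹ * r⁻¹ = x * (p⁻¹ * r * p) * x⁻¹ * (p⁻¹ * r * p)⁻¹ := by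
        calc p * x * p⁻¹ * r * (p * x * p⁻¹)⁻¹ * r⁻¹ = p * (x * (p⁻¹ * r * p) * x⁻¹ * (p⁻¹ * r * p)⁻¹) * p⁻¹ := by group
          _ = _ := by rw [h2, mul_inv_cancel_right]
      rw [h3]
      exact h1
  exact hB ⟨ht, hR⟩

/-- the centre of `R` -/
theorem eq_z_of_central (h : SheetX z P R) {c : K} (hc : c ∈ R) (hc1 : c ≠ 1) (hcc : ∀ r ∈ R, c * r = r * c) : c = z := by
  let B : Subgroup K := R ⊓ centralizer (R : Set K)
  have hBinv : ∀ x ∈ P, ∀ b ∈ B, x * b * x⁻¹ ∈ B := by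
    intro x hx b hb
    refine ⟨h.Rn x hx b hb.1, mem_centralizer_iff.2 fun y hy => ?_⟩
    have h3 := h.Rn x⁻¹ (P.inv_mem hx) y hy
    have h4 := mem_centralizer_iff.1 hb.2 _ h3
    calc y * (x * b * x⁻¹) = x * ((x⁻¹ * y * x⁻¹⁻¹) * b) * x⁻¹ := by group
      _ = x * (b * (x⁻¹ * y * x⁻¹⁻¹)) * x⁻¹ := by rw [h4]
      _ = x * b * x⁻¹ * y := by group
  have hcB : c ∈ B := ⟨hc, mem_centralizer_iff.2 fun y hy => (hcc y hy).symm⟩
  rcases h.Rmin B inf_le_left hBinv with h1 | h1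
  · exact (h1 c hcB).resolve_left hc1
  · exfalso
    obtain ⟨a, ha, b, hb, hab⟩ := h.Rna
    have h4 : b ∈ B := by rw [h1]; exact hb
    exact hab (mem_centralizer_iff.1 h4.2 a ha)

/-- the conjugate of `z` needed for THEOREM EX -/
theorem yt_of (h : SheetE z P R) : ∀ c ∈ R, c ≠ 1 → (∀ q ∈ R, c * q = q * c) →
    ∃ k : K, (k * c * k⁻¹) * c = c * (k * c * k⁻¹) ∧ (∀ q ∈ R, (k * c * k⁻¹) * q * (k * c * k⁻¹)⁻¹ ∈ R) ∧
      ∃ q ∈ R, (k * c * k⁻¹) * q * (k * c * k⁻¹)⁻¹ * q⁻¹ ≠ 1 ∧ (k * c * k⁻¹) * q * (k * c * k⁻¹)⁻¹ * q⁻¹ ≠ c := by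
  intro c hc hc1 hcc
  have hX := of_sheetE h
  obtain rfl := eq_z_of_central hX hc hc1 hcc
  obtain ⟨k, hk1, hk2, -⟩ := h.ytrick
  refine ⟨k, h.cen _ hk1, fun q hq => h.Rn _ hk1 q hq, ?_⟩
  by_contra hcon
  push Not at hcon
  exact hk2 (mem_of_triv hX hk1 fun r hr => or_iff_not_imp_left.2 fun h3 => hcon r hr h3)

end sheet

section

variable {H : Type u} [Group H] [Finite H] {M : Type v} [Group M] [Finite M] [MulDistribMulAction H M]
  {K A : Subgroup H}

/-- the sheet in `K` excludes an exact `A ≤ R^g` with `|A| > 2` -/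
theorem false_of_sub (sq : ∀ m : M, m * m = 1) (faith : ∀ h : H, (∀ m : M, h • m = m) → h = 1)
    (hex : (cv M (A : Set H)).index ≤ Nat.card A) (h2 : 2 < Nat.card A) {z : K} {P R : Subgroup K} {n : ℕ} (hn : 2 ≤ n)
    (hz : SheetE z P R) (hcard : Nat.card R = 2 ^ (2 * n + 1)) (ht : TrivC.{u, v, u} (centralizer ({z} : Set K)) P n)
    {g : H} (hg : ∀ a ∈ A, g⁻¹ * a * g ∈ R.map K.subtype) : False := by
  have r : Rec.{u, v, u} (centralizer ({z} : Set K)) P R n := Rec.of_sheet (of_sheetE hz) hcard ht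
  have hR2 : IsPGroup 2 R := hz.R2
  have hker : (MonoidHom.id K).ker = ⊥ := by
    ext x
    rfl
  have hkc : (MonoidHom.id K).ker ≤ center K := by rw [hker]; exact bot_le
  have hD := dat_of_rec (π := MonoidHom.id K) Function.surjective_id hkc (by rw [hker, card_bot]; exact odd_one) r
  have hQ : ∀ x : K, x ∈ o2 (R.comap (MonoidHom.id K)) ↔ x ∈ R := by
    intro x
    rw [mem_lift2 hkc hR2]
    refine ⟨fun h => h.1, fun h => ⟨h, ?_⟩⟩
    obtain ⟨k, hk⟩ := hR2 ⟨x, h⟩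
    exact ⟨k, congrArg Subtype.val hk⟩
  obtain ⟨B, hB⟩ : ∃ B, B = cj g⁻¹ A := ⟨_, rfl⟩
  have hBR : B ≤ R.map K.subtype := by
    rw [hB]
    rintro _ ⟨a, ha, rfl⟩
    have h1 := hg a ha
    change g⁻¹ * a * g⁻¹⁻¹ ∈ _
    rwa [inv_inv]
  have hBK : B ≤ K := hBR.trans (map_subtype_le _)
  have hBe : (B.comap K.subtype).map K.subtype = B := by
    rw [map_comap_eq, range_subtype, inf_eq_right.2 hBK]
  have hcardB : Nat.card (B.comap K.subtype) = Nat.card A := by
    rw [← card_map_of_injective (K := B.comap K.subtype) K.subtype_injective, hBe, hB, cj,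
      card_map_of_injective (MulAut.conj g⁻¹).injective]
  have hcvB : cv M ((B.comap K.subtype : Subgroup K) : Set K) = cv M (B : Set H) := by
    ext m
    rw [mem_cv, mem_cv]
    constructor
    · intro h b hb
      exact h ⟨b, hBK hb⟩ hb
    · intro h b hb
      exact h b hb
  have hge : Nat.card M ≤ fab M 1 1 (B.comap K.subtype : Subgroup K) := by
    have h1 : (cv M (B : Set H)).index ≤ Nat.card A := by
      rw [hB, cj, QData.index_cv_map_conj]
      exact hex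
    rw [fab_one, fo, hcardB, hcvB, ← card_mul_index (cv M (B : Set H)), mul_comm]
    exact Nat.mul_le_mul_right _ h1
  refine hD.false_ex (A := B.comap K.subtype) hn sq (fun k hk => Subtype.ext (faith k fun m => hk m)) ?_ hge
    (by rw [hcardB]; exact h2) ?_
  · intro b hb
    rw [hQ]
    obtain ⟨y, hy, hyb⟩ := hBR hb
    have h1 : y = b := Subtype.ext hyb
    rw [← h1]
    exact hy
  · intro c hc hc1 hcc
    obtain ⟨k, h3, h4, q, hq, h5, h6⟩ := yt_of hz c ((hQ c).1 hc) hc1 fun q hq => hcc q ((hQ q).2 hq)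
    exact ⟨k, h3, fun q hq => (hQ _).2 (h4 q ((hQ q).1 hq)), q, (hQ q).2 hq, h5, h6⟩

end

/-- **The row of a class of groups with a sheet of type (E) and `TrivC`.** -/
theorem deadX_of_sheet {𝒮 : ∀ (S : Type u) [Group S], Prop}
    (hS : ∀ (S : Type u) [Group S] [Finite S], 𝒮 S → ∃ (z : S) (P R : Subgroup S) (n : ℕ), SheetE z P R ∧ 2 ≤ n ∧
      Nat.card R = 2 ^ (2 * n + 1) ∧ TrivC.{u, v, u} (centralizer ({z} : Set S)) P n) : DeadX.{u, v} 𝒮 := by
  intro H _ _ M _ _ _ K T A h hK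
  obtain ⟨z, P, R, n, hsh, hn, hcard, ht⟩ := hS K hK
  obtain ⟨g, hg⟩ := h.asx.le_conj (of_sheetE hsh)
  exact false_of_sub h.sq h.faith h.exact.le (lt_of_lt_of_le (by norm_num) h.four) hn hsh hcard ht hg

end Cfsg.Agent.Omega.ML.ExEx.SheetRow

end

section


/-!
# K-list "exact + low": the row `Fi24'` (helper96, over helper39's sheet)
-/

set_option autoImplicit false

namespace Cfsg.Agent.Omega.ML.ExEx.RowFi24

open Subgroup Cfsg Cfsg.Agent.Omega.ML.Ex Cfsg.Agent.Omega.ML.ExRec Cfsg.Agent.Omega.ML.ExFi24 Cfsg.Agent.OddHalf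
open Cfsg.Agent.KFacts.FiTF Cfsg.Agent.KFacts.FiTF.Defs

universe u v

/-- **The row `Fi24'`.** -/
theorem deadX : DeadX.{u, v} @Spor.IsoFi24' := by
  refine SheetRow.deadX_of_sheet fun S _ _ h => ?_
  have : Finite Spor.Fi24 := Cfsg.Agent.R08.FiTwentyFour.finite_Fi24
  obtain ⟨e⟩ := h
  refine ⟨_, _, _, 6, D8.SheetMap.sheetE_map e.symm sheetE, by norm_num, ?_, ?_⟩
  · have h1 := Abs.card_RK frame
    rw [← Nat.card_congr (equivMapOfInjective _ e.symm.toMonoidHom e.symm.injective).toEquiv]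
    rw [h1]; norm_num
  · rw [D8.SheetMap.centralizer_map]
    exact TrivC.map e.symm Cfsg.Agent.Omega.ML.RowFi24.triv

end Cfsg.Agent.Omega.ML.ExEx.RowFi24

end
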