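import Cfsg.Agent.Mrg.Omega.ML.ExEx.Core
import Cfsg.Agent.Mrg.Omega.ML.RowBM


/-!
# K-list "exact + low": the rows `M`, `B`, `Th` (helper96, over helper552's sheets)
-/

set_option autoImplicit false

namespace Cfsg.Agent.Omega.ML.ExEx.RowBM

open Subgroup Cfsg Cfsg.Agent.KFacts Cfsg.Agent.Omega.ML.Ex Cfsg.Agent.OddHalf.D8
open Cfsg.Agent.Omega.Lie.Heis (LB)

universe u v

/-- the sheet on `S` -/
theorem exists_sheetE {S : Type u} [Group S] {w : ℕ} (h : ExInst.Has.{u, v} S w) :
    ∃ (z : S) (P R : Subgroup S) (L : Type) (_ : Group L) (_ : IsSimpleGroup L) (π : P →* L),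
      Sheet.SheetE z P R ∧ P = centralizer ({z} : Set S) ∧
      Nat.card R = 2 ^ (2 * w + 1) ∧ Function.Surjective π ∧ (∀ c, π c = 1 ↔ (c : S) ∈ R) ∧ LB.{0, u, v} L (w + 1) := by
  obtain ⟨G, _, _, Q, z, L, _, hL, π, D, hQ, hlb, ⟨e⟩⟩ := h
  have hs := SheetMap.sheetE_map e.symm D.sheet
  let f : (centralizer ({z} : Set G)) ≃* ((centralizer ({z} : Set G)).map (e.symm : G →* S)) :=
    (centralizer ({z} : Set G)).equivMapOfInjective _ e.symm.injective
  have hf : ∀ c, (f c : S) = e.symm c := fun c => rfl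
  refine ⟨_, _, _, L, _, hL, π.comp f.symm.toMonoidHom, hs, ?_, ?_,
    D.surj.comp f.symm.surjective, fun c => ?_, hlb⟩
  · ext x
    constructor
    · rintro ⟨c, hc, rfl⟩
      rw [mem_centralizer_singleton_iff]
      have h1 := mem_centralizer_singleton_iff.1 hc
      show e.symm c * e.symm z = e.symm z * e.symm c
      rw [← map_mul, h1, map_mul]
    · intro hx
      refine ⟨e x, ?_, e.symm_apply_apply x⟩
      have h1 : x * e.symm z = e.symm z * x := mem_centralizer_singleton_iff.1 hx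
      refine mem_centralizer_singleton_iff.2 ?_
      have h2 := congrArg e h1
      rwa [map_mul, map_mul, e.apply_symm_apply] at h2
  · rw [← hQ]
    exact (Nat.card_congr (Q.equivMapOfInjective _ e.symm.injective).toEquiv).symm
  · obtain ⟨c, rfl⟩ := f.surjective c
    show π (f.symm (f c)) = 1 ↔ _
    rw [f.symm_apply_apply, D.ker, hf]
    constructor
    · intro h1
      exact ⟨c, h1, rfl⟩
    · rintro ⟨q, hq, h1⟩
      rwa [← e.symm.injective h1]

/-- a class of groups with the instance data of THEOREM EX -/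
theorem deadX_of_has {𝒮 : ∀ (S : Type u) [Group S], Prop} {w : ℕ} (hw : 2 ≤ w)
    (hS : ∀ (S : Type u) [Group S], 𝒮 S → ExInst.Has.{u, v} S w) : DeadX.{u, v} 𝒮 := by
  refine SheetRow.deadX_of_sheet fun S _ _ hK => ?_
  obtain ⟨z, P, R, L, _, _, π, hsh, hP, hR, hs, hk, hlb⟩ := exists_sheetE (hS S hK)
  exact ⟨z, P, R, w, hsh, hw, hR, Cfsg.Agent.Omega.ML.RowBM.trivC (JTwo.Sheet.of_sheetE hsh) hP π hs hk hlb⟩

/-- **the row `M`** -/
theorem monster : DeadX.{u, v} @Spor.IsoM := deadX_of_has (w := 12) (by norm_num) fun S _ h => ExInst.monster S h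

/-- **the row `B`** -/
theorem baby : DeadX.{u, v} @Spor.IsoB := deadX_of_has (w := 11) (by norm_num) fun S _ h => ExInst.baby S h

/-- **the row `Th`** -/
theorem thompson : DeadX.{u, v} @Spor.IsoTh := deadX_of_has (w := 4) (by norm_num) fun S _ h => ExInst.thompson S h

end Cfsg.Agent.Omega.ML.ExEx.RowBM
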